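import Mathlib.CategoryTheory.Sites.Abelian
import Mathlib.CategoryTheory.Sites.EpiMono
import Mathlib.Algebra.Homology.ShortComplex.Exact
import Mathlib.Algebra.Homology.ShortComplex.PreservesHomology
import Mathlib.Algebra.Category.Grp.Abelian
import Mathlib.Algebra.Category.Grp.ZModuleEquivalence
import Mathlib.Algebra.Category.Grp.Adjunctions
import Mathlib.Algebra.Homology.ShortComplex.Ab

/-!
# Exactness of sequences of abelian sheaves on sections
-/

set_option autoImplicit false

universe w v u

open CategoryTheory CategoryTheory.Limits Opposite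

namespace K787.SheafExact

variable {C : Type u} [Category.{v} C] {J : GrothendieckTopology C}
  [HasSheafify J AddCommGrpCat.{w}]

/-- A section of the middle term killed by the second map is a section of the cycles. -/
theorem exists_cycles (S : ShortComplex (Sheaf J AddCommGrpCat.{w})) (U : C) (x : S.X₂.obj.obj (op U))
    (hx : (S.g.hom.app (op U)).hom x = 0) :
    ∃ z : S.cycles.obj.obj (op U), (S.iCycles.hom.app (op U)).hom z = x := by
  let F : Sheaf J AddCommGrpCat.{w} ⥤ AddCommGrpCat.{w} :=
    sheafToPresheaf J AddCommGrpCat.{w} ⋙ (evaluation _ _).obj (op U)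
  have hF : PreservesLimitsOfShape WalkingParallelPair F := inferInstance
  have hlim := isLimitForkMapOfIsLimit' F _ S.cyclesIsKernel
  let a : AddCommGrpCat.of (ULift.{w} ℤ) ⟶ F.obj S.X₂ :=
    AddCommGrpCat.ofHom ((zmultiplesHom _ x).comp AddEquiv.ulift.toAddMonoidHom)
  have ha : a ≫ F.map S.g = 0 := by
    ext ⟨n⟩
    change (S.g.hom.app (op U)).hom (n • x) = 0
    rw [map_zsmul, hx, smul_zero]
  let l := KernelFork.IsLimit.lift' hlim a ha
  refine ⟨l.1.hom ⟨1⟩, ?_⟩
  have h := congrArg (fun f => f.hom (⟨1⟩ : ULift.{w} ℤ)) l.2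
  exact h.trans (one_zsmul x)

variable [J.WEqualsLocallyBijective AddCommGrpCat.{w}]

/-- Exactness of a sequence of abelian sheaves: a section of the middle term killed by the second map is locally in
the image of the first. -/
theorem imageSieve_mem (S : ShortComplex (Sheaf J AddCommGrpCat.{w})) (hS : S.Exact) (U : C)
    (x : S.X₂.obj.obj (op U)) (hx : (S.g.hom.app (op U)).hom x = 0) :
    Presheaf.imageSieve S.f.hom x ∈ J U := by
  obtain ⟨z, hz⟩ := exists_cycles S U x hx
  have hepi : Epi S.toCycles := S.exact_iff_epi_toCycles.1 hS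
  have hs : Sheaf.IsLocallySurjective S.toCycles :=
    (Sheaf.isLocallySurjective_iff_epi' AddCommGrpCat.{w} S.toCycles).2 hepi
  refine J.superset_covering ?_ (hs.imageSieve_mem z)
  intro V f hf
  obtain ⟨y, hy⟩ := hf
  refine ⟨y, ?_⟩
  rw [← hz]
  have h1 : S.f.hom = S.toCycles.hom ≫ S.iCycles.hom := by
    rw [← ObjectProperty.FullSubcategory.comp_hom, S.toCycles_i]
  have h2 : (S.f.hom.app (op V)).hom y = (S.iCycles.hom.app (op V)).hom ((S.toCycles.hom.app (op V)).hom y) := by
    rw [h1]; rfl
  have h3 : (S.iCycles.hom.app (op V)).hom ((S.cycles.obj.map f.op).hom z) =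
      (S.X₂.obj.map f.op).hom ((S.iCycles.hom.app (op U)).hom z) :=
    congrArg (fun t => t.hom z) (S.iCycles.hom.naturality f.op)
  exact h2.trans ((congrArg _ hy).trans h3)

end K787.SheafExact
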