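import Groth.Agent.MultSch.K787.SheafExact
import Groth.Prelude.Def_W4c1extbt15Mult
import Groth.Prelude.Def_CGrpSh

/-!
# Locally surjective morphisms of schemes over a base and descent along them
-/

set_option autoImplicit false

universe u

open CategoryTheory CategoryTheory.Limits MonoidalCategory CartesianMonoidalCategory MonObj AlgebraicGeometry Opposite

namespace K787.MultLoc

variable {S : Scheme.{u}} (K : Precoverage Scheme.{u})

/-- A morphism is locally surjective on points, for the topology `K`. -/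
def LocSurj {X Y : Over S} (f : X ⟶ Y) : Prop :=
  ∀ (T : Over S) (y : T ⟶ Y), ∃ R ∈ QuotSh.J K S T, ∀ ⦃V : Over S⦄ (g : V ⟶ T), R g → ∃ x : V ⟶ X, x ≫ f = g ≫ y

variable {K}

section Sub

variable [(QuotSh.J K S).Subcanonical]

theorem eq_of_cover {T N : Over S} {R : Sieve T} (hR : R ∈ QuotSh.J K S T) (a b : T ⟶ N)
    (h : ∀ ⦃V : Over S⦄ (g : V ⟶ T), R g → g ≫ a = g ≫ b) : a = b := by
  have hs : Presieve.IsSheaf (QuotSh.J K S) (yoneda.obj N) :=
    GrothendieckTopology.Subcanonical.isSheaf_of_isRepresentable (J := QuotSh.J K S) (yoneda.obj N)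
  exact (hs R hR).isSeparatedFor.ext h

theorem LocSurj.epi {X Y : Over S} {f : X ⟶ Y} (hf : LocSurj K f) : Epi f where
  left_cancellation a b hab := by
    obtain ⟨R, hR, h⟩ := hf Y (𝟙 Y)
    apply eq_of_cover hR
    intro V g hg
    obtain ⟨x, hx⟩ := h g hg
    rw [Category.comp_id] at hx
    rw [← hx, Category.assoc, Category.assoc, hab]

/-- Morphisms descend along locally surjective morphisms. -/
theorem LocSurj.exists_desc {X Y N : Over S} {f : X ⟶ Y} (hf : LocSurj K f) (g : X ⟶ N)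
    (hg : ∀ (T : Over S) (x x' : T ⟶ X), x ≫ f = x' ≫ f → x ≫ g = x' ≫ g) :
    ∃ g' : Y ⟶ N, f ≫ g' = g := by
  obtain ⟨R, hR, h⟩ := hf Y (𝟙 Y)
  have h' : ∀ ⦃V : Over S⦄ (k : V ⟶ Y), R k → ∃ x : V ⟶ X, x ≫ f = k := by
    intro V k hk
    obtain ⟨x, hx⟩ := h k hk
    exact ⟨x, by rw [hx, Category.comp_id]⟩
  choose x hx using h'
  have hs : Presieve.IsSheaf (QuotSh.J K S) (yoneda.obj N) :=
    GrothendieckTopology.Subcanonical.isSheaf_of_isRepresentable (J := QuotSh.J K S) (yoneda.obj N)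
  let fam : Presieve.FamilyOfElements (yoneda.obj N) R.arrows := fun V k hk => x k hk ≫ g
  have hcomp : fam.Compatible := by
    rw [Presieve.compatible_iff_sieveCompatible]
    intro V W k a hk
    change x (a ≫ k) _ ≫ g = a ≫ x k hk ≫ g
    rw [← Category.assoc]
    apply hg
    rw [hx, Category.assoc, hx]
  obtain ⟨g', hg', -⟩ := hs R hR fam hcomp
  refine ⟨g', ?_⟩
  apply eq_of_cover ((QuotSh.J K S).pullback_stable f hR)
  intro V k hk
  have h1 : (k ≫ f) ≫ g' = x (k ≫ f) hk ≫ g := hg' (k ≫ f) hk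
  rw [← Category.assoc, h1]
  apply hg
  rw [hx]

end Sub

/-- Finitely many points lift simultaneously on a common covering. -/
theorem LocSurj.exists_cover {X Y : Over S} {f : X ⟶ Y} (hf : LocSurj K f) {T : Over S} {I : Type*} [Finite I]
    (y : I → (T ⟶ Y)) :
    ∃ R ∈ QuotSh.J K S T, ∀ ⦃V : Over S⦄ (g : V ⟶ T), R g → ∃ x : I → (V ⟶ X), ∀ l, x l ≫ f = g ≫ y l := by
  cases nonempty_fintype I
  choose R hR h using fun l => hf T (y l)
  refine ⟨Finset.univ.inf R, ?_, ?_⟩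
  · refine Finset.inf_induction (p := fun R => R ∈ QuotSh.J K S T) ((QuotSh.J K S).top_mem T) ?_ fun l _ => hR l
    intro a ha b hb
    exact (QuotSh.J K S).intersection_covering ha hb
  · intro V g hg
    have hg' : ∀ l, R l g := fun l => (Finset.inf_le (Finset.mem_univ l) : Finset.univ.inf R ≤ R l) _ hg
    choose x hx using fun l => h l g (hg' l)
    exact ⟨x, hx⟩

section Grp

variable [(QuotSh.J K S).Subcanonical]

/-- An epimorphism of sheaves of points is locally surjective. -/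
theorem locSurj_of_epi {M N : Over S} [GrpObj M] [IsCommMonObj M] [GrpObj N] [IsCommMonObj N]
    (π : M ⟶ N) [IsMonHom π] (hπ : Epi (CGrpSh.ptsMap K π)) : LocSurj K π := by
  intro T y
  have hs : Sheaf.IsLocallySurjective (CGrpSh.ptsMap K π) :=
    (Sheaf.isLocallySurjective_iff_epi' AddCommGrpCat.{u + 1} (CGrpSh.ptsMap K π)).2 hπ
  refine ⟨_, hs.imageSieve_mem (U := T) (ULift.up (Additive.ofMul y)), ?_⟩
  rintro V g ⟨x, hx⟩
  exact ⟨x.down.toMul, congrArg (fun t : ULift.{u + 1} (Additive (V ⟶ N)) => t.down.toMul) hx⟩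

/-- Exactness of a sequence of group schemes as sheaves, on points. -/
theorem exists_lift_of_exact {M₁ M₂ M₃ : Over S} [GrpObj M₁] [IsCommMonObj M₁] [GrpObj M₂] [IsCommMonObj M₂]
    [GrpObj M₃] [IsCommMonObj M₃] (j : M₁ ⟶ M₂) (π : M₂ ⟶ M₃) [IsMonHom j] [IsMonHom π] (w : j ≫ π = 1)
    (hex : (CGrpSh.seq K j π w).Exact) {T : Over S} (x : T ⟶ M₂) (hx : x ≫ π = 1) :
    ∃ R ∈ QuotSh.J K S T, ∀ ⦃V : Over S⦄ (g : V ⟶ T), R g → ∃ y : V ⟶ M₁, y ≫ j = g ≫ x := by
  refine ⟨_, K787.SheafExact.imageSieve_mem (CGrpSh.seq K j π w) hex T (ULift.up (Additive.ofMul x)) ?_, ?_⟩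
  · apply ULift.ext
    change Additive.ofMul (x ≫ π) = 0
    rw [hx]
    rfl
  · rintro V g ⟨y, hy⟩
    exact ⟨y.down.toMul, congrArg (fun t : ULift.{u + 1} (Additive (V ⟶ M₂)) => t.down.toMul) hy⟩

end Grp

end K787.MultLoc
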