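import Groth.Agent.MultSch.K787.LocSurj

/-!
# Powers of a locally surjective homomorphism, descent of alternating multilinear maps
-/

set_option autoImplicit false

universe w u

open CategoryTheory CategoryTheory.Limits MonoidalCategory CartesianMonoidalCategory MonObj AlgebraicGeometry Opposite

namespace K787.MultLoc

section Cat

variable {C : Type*} [Category C] [CartesianMonoidalCategory C]

/-- the coordinates of a point of a power -/
noncomputable def coord {M T : C} : {n : ℕ} → (T ⟶ MultSch.pow M n) → (Fin n → (T ⟶ M))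
  | 0, _ => Fin.elim0
  | _ + 1, z => Fin.cons (z ≫ fst M _) (coord (z ≫ snd M _))

theorem tuple_coord {M T : C} : {n : ℕ} → (z : T ⟶ MultSch.pow M n) → MultSch.tuple (coord z) = z
  | 0, _ => toUnit_unique _ _
  | n + 1, z => by
    have ih := tuple_coord (z ≫ snd M (MultSch.pow M n))
    apply CartesianMonoidalCategory.hom_ext
    · exact lift_fst _ _
    · exact (lift_snd _ _).trans ih

theorem coord_tuple {M T : C} : {n : ℕ} → (x : Fin n → (T ⟶ M)) → coord (MultSch.tuple x) = x
  | 0, _ => funext fun i => i.elim0
  | n + 1, x => by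
    have ih := coord_tuple (fun i : Fin n => x i.succ)
    funext i
    refine Fin.cases ?_ (fun i => ?_) i
    · exact lift_fst (x 0) (MultSch.tuple fun i => x i.succ)
    · change coord (lift (x 0) (MultSch.tuple fun i => x i.succ) ≫ snd M (MultSch.pow M n)) i = _
      rw [lift_snd (x 0) (MultSch.tuple fun i => x i.succ), ih]

theorem comp_tuple {M T T' : C} (g : T' ⟶ T) : {n : ℕ} → (x : Fin n → (T ⟶ M)) →
    g ≫ MultSch.tuple x = MultSch.tuple fun l => g ≫ x l
  | 0, _ => toUnit_unique _ _
  | n + 1, x => by
    have ih := comp_tuple g (fun i : Fin n => x i.succ)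
    change g ≫ lift (x 0) (MultSch.tuple fun i => x i.succ) =
      lift (g ≫ x 0) (MultSch.tuple fun i => g ≫ x i.succ)
    rw [comp_lift, ih]

theorem coord_comp {M T T' : C} (g : T' ⟶ T) {n : ℕ} (z : T ⟶ MultSch.pow M n) (l : Fin n) :
    coord (g ≫ z) l = g ≫ coord z l := by
  conv_lhs => rw [← tuple_coord z, comp_tuple, coord_tuple]

theorem tuple_injective {M T : C} {n : ℕ} {x y : Fin n → (T ⟶ M)} (h : MultSch.tuple x = MultSch.tuple y) :
    x = y := by
  rw [← coord_tuple x, h, coord_tuple]

/-- the power of a morphism -/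
noncomputable def powMap {M N : C} (π : M ⟶ N) (n : ℕ) : MultSch.pow M n ⟶ MultSch.pow N n :=
  MultSch.tuple fun l => coord (𝟙 (MultSch.pow M n)) l ≫ π

theorem tuple_powMap {M N T : C} (π : M ⟶ N) {n : ℕ} (x : Fin n → (T ⟶ M)) :
    MultSch.tuple x ≫ powMap π n = MultSch.tuple fun l => x l ≫ π := by
  rw [powMap, comp_tuple]
  congr 1
  funext l
  rw [← Category.assoc, ← coord_comp, Category.comp_id, coord_tuple]

theorem comp_powMap {M N T : C} (π : M ⟶ N) {n : ℕ} (z : T ⟶ MultSch.pow M n) :
    z ≫ powMap π n = MultSch.tuple fun l => coord z l ≫ π := by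
  conv_lhs => rw [← tuple_coord z, tuple_powMap]

end Cat

variable {S : Scheme.{u}} {K : Precoverage Scheme.{u}}

theorem LocSurj.powMap {M N : Over S} {π : M ⟶ N} (hπ : LocSurj K π) (n : ℕ) : LocSurj K (powMap π n) := by
  intro T z
  obtain ⟨R, hR, h⟩ := hπ.exists_cover (coord z)
  refine ⟨R, hR, fun V g hg => ?_⟩
  obtain ⟨x, hx⟩ := h g hg
  refine ⟨MultSch.tuple x, ?_⟩
  rw [tuple_powMap]
  conv_rhs => rw [← tuple_coord z, comp_tuple]
  congr 1
  funext l
  exact hx l

variable [(QuotSh.J K S).Subcanonical]

/-- Alternation descends along locally surjective morphisms. -/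
theorem isAlternating_of_locSurj {M N H : Over S} [GrpObj N] [GrpObj H] {π : M ⟶ N} (hπ : LocSurj K π)
    {r : ℕ} (φ : MultSch.pow N r ⟶ H)
    (halt : ∀ (T : Over S) (x : Fin r → (T ⟶ M)) (i j : Fin r), i ≠ j → x i = x j →
      MultSch.tuple (fun l => x l ≫ π) ≫ φ = 1) : MultSch.IsAlternating φ := by
  intro T x i j hij hx
  obtain ⟨R, hR, h⟩ := hπ.exists_cover x
  apply eq_of_cover hR
  intro V g hg
  obtain ⟨y, hy⟩ := h g hg
  rw [MonObj.comp_one, ← Category.assoc, comp_tuple]
  have key : (fun l => g ≫ x l) = fun l => Function.update y j (y i) l ≫ π := by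
    funext l
    by_cases hl : l = j
    · subst hl
      rw [Function.update_self, hy, hx]
    · rw [Function.update_of_ne hl, hy]
  rw [key]
  exact halt V _ i j hij (by rw [Function.update_of_ne hij, Function.update_self])

/-! ### points of multilinear maps -/

section Mult

variable {M N : Over S} [GrpObj M] [GrpObj N] {n : ℕ} {φ : MultSch.pow M n ⟶ N}

/-- evaluation on a point -/
noncomputable def ev {T : Over S} (φ : MultSch.pow M n ⟶ N) (x : Fin n → (T ⟶ M)) : T ⟶ N := MultSch.tuple x ≫ φ

theorem ev_mul (h : MultSch.IsMultilinear φ) {T : Over S} (x : Fin n → (T ⟶ M)) (i : Fin n) (y z : T ⟶ M) :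
    ev φ (Function.update x i (y * z)) = ev φ (Function.update x i y) * ev φ (Function.update x i z) :=
  h T x i y z

theorem ev_comp {T T' : Over S} (g : T' ⟶ T) (x : Fin n → (T ⟶ M)) : g ≫ ev φ x = ev φ fun l => g ≫ x l := by
  unfold ev
  rw [← Category.assoc, comp_tuple]

/-- an alternating map killing tuples whose coordinate `i₀` is of the form `c` kills tuples with any coordinate `c` -/
theorem ev_eq_one_of_coord (h : MultSch.IsMultilinear φ) (halt : MultSch.IsAlternating φ) {T : Over S} (i₀ : Fin n)
    (c : T ⟶ M) (hc : ∀ x : Fin n → (T ⟶ M), x i₀ = c → ev φ x = 1) (i : Fin n) (x : Fin n → (T ⟶ M))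
    (hx : x i = c) : ev φ x = 1 := by
  by_cases hi : i = i₀
  · exact hc x (hi ▸ hx)
  · -- the values at `x₀ * c` in both slots
    have e (a b : T ⟶ M) : T ⟶ N := ev φ (Function.update (Function.update x i₀ a) i b)
    have hm1 : ∀ a b b' : T ⟶ M, ev φ (Function.update (Function.update x i₀ a) i (b * b')) =
        ev φ (Function.update (Function.update x i₀ a) i b) * ev φ (Function.update (Function.update x i₀ a) i b') :=
      fun a b b' => ev_mul h _ _ _ _
    have hcomm : ∀ a b : T ⟶ M, Function.update (Function.update x i₀ a) i b =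
        Function.update (Function.update x i b) i₀ a := fun a b => Function.update_comm (Ne.symm hi) _ _ _
    have hm2 : ∀ a a' b : T ⟶ M, ev φ (Function.update (Function.update x i₀ (a * a')) i b) =
        ev φ (Function.update (Function.update x i₀ a) i b) * ev φ (Function.update (Function.update x i₀ a') i b) := by
      intro a a' b
      rw [hcomm, hcomm, hcomm]
      exact ev_mul h _ _ _ _
    have hal : ∀ a : T ⟶ M, ev φ (Function.update (Function.update x i₀ a) i a) = 1 := by
      intro a
      apply halt T _ i₀ i (Ne.symm hi)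
      rw [Function.update_of_ne (Ne.symm hi), Function.update_self, Function.update_self]
    have h1 := hal (x i₀ * c)
    rw [hm1, hm2, hm2, hal, hal, _root_.one_mul, _root_.mul_one] at h1
    have h2 : ev φ (Function.update (Function.update x i₀ c) i (x i₀)) = 1 := by
      apply hc
      rw [Function.update_of_ne (Ne.symm hi), Function.update_self]
    rw [h2, _root_.one_mul] at h1
    have h3 : Function.update (Function.update x i₀ (x i₀)) i c = x := by
      rw [Function.update_eq_self, ← hx, Function.update_eq_self]
    rwa [h3] at h1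

/-- A multilinear map taking the value `1` as soon as one coordinate lies in a class closed under the required
operations depends only on the coordinates modulo that class. -/
theorem ev_congr (h : MultSch.IsMultilinear φ) {T : Over S} (a b : Fin n → (T ⟶ M))
    (hk : ∀ (i : Fin n) (x : Fin n → (T ⟶ M)), x i = (b i)⁻¹ * a i → ev φ x = 1) : ev φ a = ev φ b := by
  suffices H : ∀ s : Finset (Fin n), ev φ (s.piecewise a b) = ev φ b by
    have := H Finset.univ
    rwa [Finset.piecewise_univ] at this
  intro s
  induction s using Finset.induction_on with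
  | empty => rw [Finset.piecewise_empty]
  | insert i s hi ih =>
    rw [Finset.piecewise_insert]
    have e1 : a i = b i * ((b i)⁻¹ * a i) := by rw [mul_inv_cancel_left]
    rw [e1, ev_mul h, hk i _ (Function.update_self _ _ _), _root_.mul_one]
    have e2 : Function.update (s.piecewise a b) i (b i) = s.piecewise a b := by
      have : b i = s.piecewise a b i := by rw [Finset.piecewise_eq_of_notMem _ _ _ hi]
      rw [this, Function.update_eq_self]
    rw [e2, ih]

end Mult

end K787.MultLoc
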